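import Groth.Agent.Lib.CurveNF.Basic
import Groth.Prelude.Def_Curv2
import Mathlib.RingTheory.Ideal.MinimalPrime.Basic
import Mathlib.AlgebraicGeometry.Properties

/-!
# Universal property of the normalization of an integral scheme
-/

set_option autoImplicit false
set_option linter.style.haveILetI false

universe u

open CategoryTheory CategoryTheory.Limits AlgebraicGeometry TopologicalSpace

namespace Groth.Agent.NormUP12

theorem mem_nonZeroDivisors_of_forall_minimalPrimes {C : Type u} [CommRing C] [_root_.IsReduced C] {a : C}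
    (h : ∀ p ∈ minimalPrimes C, a ∉ p) : a ∈ nonZeroDivisors C := by
  rw [mem_nonZeroDivisors_iff_right]
  intro x hx
  have : x ∈ nilradical C := by
    rw [nilradical, Ideal.zero_eq_bot, ← Ideal.sInf_minimalPrimes, Ideal.mem_sInf]
    exact fun {p} hp => (hp.1.1.mem_or_mem (show x * a ∈ p by rw [hx]; exact zero_mem _)).resolve_right (h p hp)
  rwa [nilradical_eq_zero] at this

theorem exists_mul_eq {C : Type u} [CommRing C] (L : Type u) [CommRing L] [IsDomain L]
    [IsIntegrallyClosed L] [Algebra C L] (hL : ∀ y ∈ nonZeroDivisors C, algebraMap C L y ≠ 0)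
    {Q : Type u} [CommRing Q] [Algebra C Q] [IsLocalization (nonZeroDivisors C) Q]
    {x : Q} {c : C} {s : nonZeroDivisors C} (hcs : x * algebraMap C Q s = algebraMap C Q c)
    (hx : IsIntegral C x) : ∃ l : L, l * algebraMap C L s = algebraMap C L c := by
  let γ : C →+* FractionRing L := (algebraMap L (FractionRing L)).comp (algebraMap C L)
  have hu : ∀ y : nonZeroDivisors C, IsUnit (γ y) := fun y => by
    refine isUnit_iff_ne_zero.2 fun h0 => hL y y.2 ?_
    rwa [RingHom.comp_apply, IsFractionRing.to_map_eq_zero_iff] at h0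
  let χ : Q →+* FractionRing L := IsLocalization.lift hu
  have hχ : ∀ a, χ (algebraMap C Q a) = γ a := IsLocalization.lift_eq hu
  have hint : IsIntegral L (χ x) := by
    obtain ⟨p, hm, hp⟩ := hx
    refine ⟨p.map (algebraMap C L), hm.map _, ?_⟩
    have h := congrArg χ hp
    rw [map_zero, Polynomial.hom_eval₂] at h
    rw [Polynomial.eval₂_map, ← h]
    congr 1
    exact RingHom.ext fun a => (hχ a).symm
  obtain ⟨l, hl⟩ := IsIntegrallyClosed.isIntegral_iff.1 hint
  refine ⟨l, IsFractionRing.injective L (FractionRing L) ?_⟩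
  have := congrArg χ hcs
  rw [map_mul, hχ, hχ] at this
  rw [map_mul, hl]
  exact this

/-- A ring with normal localisations is integrally closed in its total ring of fractions. -/
theorem exists_algebraMap_eq {C : Type u} [CommRing C]
    (hC : ∀ P : Ideal C, ∀ [P.IsMaximal],
      IsDomain (Localization.AtPrime P) ∧ IsIntegrallyClosed (Localization.AtPrime P))
    {x : Localization (nonZeroDivisors C)} (hx : IsIntegral C x) :
    ∃ d : C, algebraMap C (Localization (nonZeroDivisors C)) d = x := by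
  obtain ⟨⟨c, s⟩, hcs⟩ := IsLocalization.surj (nonZeroDivisors C) x
  let I : Ideal C := Submodule.comap (LinearMap.mulRight C c) (Ideal.span {(s : C)})
  have hI : I = ⊤ := by
    by_contra hne
    obtain ⟨P, hP, hIP⟩ := I.exists_le_maximal hne
    haveI := hP
    obtain ⟨_, _⟩ := hC P
    let L := Localization.AtPrime P
    obtain ⟨l, h2⟩ : ∃ l : L, l * algebraMap C L s = algebraMap C L c :=
      exists_mul_eq L (fun y hy => by
        intro h0
        obtain ⟨t, ht⟩ := (IsLocalization.map_eq_zero_iff P.primeCompl L _).1 h0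
        exact t.2 (((mem_nonZeroDivisors_iff_right.1 hy) _ ht).symm ▸ P.zero_mem)) hcs hx
    obtain ⟨⟨e, t⟩, het⟩ := IsLocalization.surj P.primeCompl l
    have h3 : algebraMap C L (c * t) = algebraMap C L (e * s) := by
      rw [map_mul, map_mul, ← het, ← h2]; ring
    obtain ⟨v, hv⟩ := (IsLocalization.eq_iff_exists P.primeCompl L).1 h3
    have hmem : (v : C) * t ∈ I := by
      show (v : C) * t * c ∈ Ideal.span {(s : C)}
      exact Ideal.mem_span_singleton'.2 ⟨(v : C) * e, by linear_combination -hv⟩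
    exact ((inferInstance : P.IsPrime).mem_or_mem (hIP hmem)).elim v.2 t.2
  have h1 : (1 : C) ∈ I := hI.symm ▸ trivial
  obtain ⟨d, hd⟩ := Ideal.mem_span_singleton'.1 (show 1 * c ∈ Ideal.span {(s : C)} from h1)
  refine ⟨d, (IsLocalization.map_units _ s).mul_right_cancel ?_⟩
  rw [hcs, ← map_mul, hd, one_mul]

set_option backward.isDefEq.respectTransparency false
set_option backward.isDefEq.respectTransparency.types false

variable {X : Scheme.{u}} [IsIntegral X] {Z : Scheme.{u}} {g : Z ⟶ X}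

theorem closure_mem_irreducibleComponents {W : Z.Opens} (hW : IsAffineOpen W) (q : PrimeSpectrum Γ(Z, W))
    (hq : q.asIdeal ∈ minimalPrimes Γ(Z, W)) : closure {hW.fromSpec q} ∈ irreducibleComponents Z := by
  refine ⟨isIrreducible_singleton.closure, fun T hT hle => ?_⟩
  obtain ⟨z', hz'⟩ := QuasiSober.sober hT.closure isClosed_closure
  have hs : z' ⤳ hW.fromSpec q := hz'.specializes (subset_closure (hle (subset_closure rfl)))
  have hmem : z' ∈ Set.range hW.fromSpec := by
    rw [hW.range_fromSpec]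
    refine hs.mem_open W.isOpen ?_
    rw [← hW.range_fromSpec]; exact ⟨q, rfl⟩
  obtain ⟨p, rfl⟩ := hmem
  have hpq : p ⤳ q := hW.fromSpec.isOpenEmbedding.isInducing.specializes_iff.1 hs
  have hp : p = q := PrimeSpectrum.ext (le_antisymm ((PrimeSpectrum.le_iff_specializes p q).2 hpq)
    (hq.2 ⟨p.isPrime, bot_le⟩ ((PrimeSpectrum.le_iff_specializes p q).2 hpq)))
  subst hp
  exact subset_closure.trans hz'.def.ge

theorem appLE_mem_nonZeroDivisors [IsReduced Z]
    (hdom : ∀ z : Z, closure {z} ∈ irreducibleComponents Z → g z = genericPoint X)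
    {U : X.Opens} {W : Z.Opens} (hW : IsAffineOpen W) (e : W ≤ g ⁻¹ᵁ U) {a : Γ(X, U)} (ha : a ≠ 0) :
    g.appLE U W e a ∈ nonZeroDivisors Γ(Z, W) := by
  refine mem_nonZeroDivisors_of_forall_minimalPrimes fun p hp hmem => ?_
  let q : PrimeSpectrum Γ(Z, W) := ⟨p, hp.1.1⟩
  have hz := hdom _ (closure_mem_irreducibleComponents hW q hp)
  have hne : (X.basicOpen a : Set X).Nonempty := by
    rw [Set.nonempty_iff_ne_empty]
    intro h
    exact ha ((basicOpen_eq_bot_iff a).1 (Opens.ext h))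
  have h1 : hW.fromSpec q ∈ Z.basicOpen (g.appLE U W e a) := by
    rw [Scheme.basicOpen_appLE]
    refine ⟨hW.range_fromSpec.le ⟨q, rfl⟩, ?_⟩
    show g (hW.fromSpec q) ∈ X.basicOpen a
    rw [hz]
    exact CurveNF.generic_mem hne
  have h2 : q ∈ hW.fromSpec ⁻¹ᵁ Z.basicOpen (g.appLE U W e a) := h1
  rw [hW.fromSpec_preimage_basicOpen] at h2
  exact h2 hmem

theorem normal_localization (hZ : Pi1.IsNormalScheme Z) {W : Z.Opens} (hW : IsAffineOpen W)
    (P : Ideal Γ(Z, W)) [hP : P.IsMaximal] :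
    IsDomain (Localization.AtPrime P) ∧ IsIntegrallyClosed (Localization.AtPrime P) := by
  let y : PrimeSpectrum Γ(Z, W) := ⟨P, inferInstance⟩
  have hy : hW.fromSpec y ∈ W := hW.range_fromSpec.le ⟨y, rfl⟩
  obtain ⟨_, _⟩ := hZ (hW.fromSpec y)
  letI : Algebra Γ(Z, W) (Z.presheaf.stalk (hW.fromSpec y)) := (Z.presheaf.germ W _ hy).hom.toAlgebra
  haveI : IsLocalization.AtPrime (Z.presheaf.stalk (hW.fromSpec y)) P := hW.isLocalization_stalk' y hy
  let E := (IsLocalization.algEquiv P.primeCompl (Z.presheaf.stalk (hW.fromSpec y))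
    (Localization.AtPrime P)).toRingEquiv
  haveI : IsDomain (Localization.AtPrime P) := Function.Injective.isDomain E.symm.toRingHom E.symm.injective
  exact ⟨inferInstance, IsIntegrallyClosed.of_equiv E⟩

theorem isReduced_of_normal (hZ : Pi1.IsNormalScheme Z) : IsReduced Z := by
  haveI : ∀ z : Z, _root_.IsReduced (Z.presheaf.stalk z) := fun z => by
    haveI := (hZ z).1
    infer_instance
  exact isReduced_of_isReduced_stalk Z

section

variable (hZ : Pi1.IsNormalScheme Z)
  (hdom : ∀ z : Z, closure {z} ∈ irreducibleComponents Z → g z = genericPoint X)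
variable [QuasiCompact (X.fromSpecStalk (genericPoint X))] [QuasiSeparated (X.fromSpecStalk (genericPoint X))]

local notation "ν" => Curv2.normalizationι X
local notation "N" => Curv2.normalization X

omit [QuasiCompact (X.fromSpecStalk (genericPoint X))] [QuasiSeparated (X.fromSpecStalk (genericPoint X))] in
theorem id_hg : X.fromSpecStalk (genericPoint X) =
    Spec.map (CommRingCat.ofHom (RingHom.id X.functionField)) ≫ X.fromSpecStalk (genericPoint X) := by
  erw [Spec.map_id, Category.id_comp]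

include hZ hdom in
theorem existsUnique_ringHom {U : X.Opens} (hU : IsAffineOpen U) (hUne : (U : Set X).Nonempty)
    {W : Z.Opens} (hW : IsAffineOpen W) (e : W ≤ g ⁻¹ᵁ U) :
    ∃! χ : Γ(N, ν ⁻¹ᵁ U) ⟶ Γ(Z, W), (ν).app U ≫ χ = g.appLE U W e := by
  haveI := isReduced_of_normal hZ
  haveI : Nonempty U := hUne.to_subtype
  haveI : IsFractionRing Γ(X, U) X.functionField := functionField_isFractionRing_of_isAffineOpen X U hU
  let f := X.fromSpecStalk (genericPoint X)
  haveI : QuasiCompact f := ‹QuasiCompact (X.fromSpecStalk (genericPoint X))›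
  haveI : QuasiSeparated f := ‹QuasiSeparated (X.fromSpecStalk (genericPoint X))›
  let ι : Γ(N, ν ⁻¹ᵁ U) →+* X.functionField := CurveNF.toK (g := f) id_hg hUne
  have hι : Function.Injective ι := (CurveNF.toK_injective_and_range (g := f) id_hg hUne hU).1
  have hιa : ∀ a, ι ((ν).app U a) = algebraMap Γ(X, U) X.functionField a :=
    fun a => CurveNF.toK_app (g := f) id_hg hUne a
  let γ := g.appLE U W e
  have hfrac : ∀ b : Γ(N, ν ⁻¹ᵁ U), ∃ a s : Γ(X, U), s ≠ 0 ∧ (ν).app U s * b = (ν).app U a := fun b => by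
    obtain ⟨⟨a, s⟩, has⟩ := IsLocalization.surj (nonZeroDivisors Γ(X, U)) (ι b)
    refine ⟨a, s, nonZeroDivisors.ne_zero s.2, hι ?_⟩
    rw [map_mul, hιa, hιa, mul_comm]
    exact has
  let Q := Localization (nonZeroDivisors Γ(Z, W))
  have hu : ∀ y : nonZeroDivisors Γ(X, U), IsUnit (((algebraMap Γ(Z, W) Q).comp γ.hom) y) := fun y =>
    IsLocalization.map_units Q ⟨γ y, appLE_mem_nonZeroDivisors hdom hW e (nonZeroDivisors.ne_zero y.2)⟩
  let ψ : X.functionField →+* Q := IsLocalization.lift hu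
  have hinjQ : Function.Injective (algebraMap Γ(Z, W) Q) := IsLocalization.injective Q le_rfl
  have hex : ∀ b, ∃ d, algebraMap Γ(Z, W) Q d = ψ (ι b) := fun b => by
    refine exists_algebraMap_eq (fun P _ => normal_localization hZ hW P) ?_
    haveI : IsIntegralHom ν := inferInstanceAs (IsIntegralHom f.fromNormalization)
    obtain ⟨p, hm, hp⟩ := (ν).isIntegral_app U hU b
    refine ⟨p.map γ.hom, hm.map _, ?_⟩
    have h := congrArg (ψ.comp ι) hp
    rw [map_zero, Polynomial.hom_eval₂] at h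
    rw [Polynomial.eval₂_map, ← RingHom.comp_apply, ← h]
    congr 1
    refine RingHom.ext fun a => ?_
    exact ((congrArg ψ (hιa a)).trans (IsLocalization.lift_eq hu a)).symm
  choose d hd using hex
  let χ : Γ(N, ν ⁻¹ᵁ U) →+* Γ(Z, W) :=
    { toFun := d
      map_one' := hinjQ (by rw [hd]; simp)
      map_zero' := hinjQ (by rw [hd]; simp)
      map_mul' := fun a b => hinjQ (by rw [hd, map_mul, map_mul, map_mul, hd, hd])
      map_add' := fun a b => hinjQ (by rw [hd, map_add, map_add, map_add, hd, hd]) }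
  have hχ : (ν).app U ≫ CommRingCat.ofHom χ = γ := by
    refine CommRingCat.hom_ext (RingHom.ext fun a => hinjQ ?_)
    show algebraMap _ Q (d _) = _
    exact (hd _).trans ((congrArg ψ (hιa a)).trans (IsLocalization.lift_eq hu a))
  refine ⟨CommRingCat.ofHom χ, hχ, fun χ' hχ' => CommRingCat.hom_ext (RingHom.ext fun b => ?_)⟩
  obtain ⟨a, s, hs, has⟩ := hfrac b
  have hnz := appLE_mem_nonZeroDivisors hdom hW e hs
  have e1 : ∀ (τ : Γ(N, ν ⁻¹ᵁ U) ⟶ Γ(Z, W)), (ν).app U ≫ τ = γ → γ s * τ b = γ a := fun τ hτ => by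
    have h := congrArg τ.hom has
    rw [map_mul] at h
    rw [← hτ]
    exact h
  refine (mul_cancel_left_mem_nonZeroDivisors hnz).1 ?_
  exact (e1 χ' hχ').trans (e1 _ hχ).symm

include hZ hdom in
theorem existsUnique_local {U : X.Opens} (hU : IsAffineOpen U) (hUne : (U : Set X).Nonempty)
    {W : Z.Opens} (hW : IsAffineOpen W) (e : W ≤ g ⁻¹ᵁ U) :
    ∃! h : (W : Scheme.{u}) ⟶ N, h ≫ ν = W.ι ≫ g := by
  haveI : IsIntegralHom ν := inferInstanceAs (IsIntegralHom (X.fromSpecStalk (genericPoint X)).fromNormalization)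
  have hV : IsAffineOpen (ν ⁻¹ᵁ U) := hU.preimage ν
  let mk : (Γ(N, ν ⁻¹ᵁ U) ⟶ Γ(Z, W)) → ((W : Scheme.{u}) ⟶ N) :=
    fun χ => hW.isoSpec.hom ≫ Spec.map χ ≫ hV.fromSpec
  have key : ∀ χ, mk χ ≫ ν = W.ι ≫ g ↔ (ν).app U ≫ χ = g.appLE U W e := by
    intro χ
    have h1 : hV.fromSpec ≫ ν = Spec.map ((ν).app U) ≫ hU.fromSpec := by
      rw [Scheme.Hom.app_eq_appLE, hU.SpecMap_appLE_fromSpec _ hV]
    have h2 : W.ι ≫ g = hW.isoSpec.hom ≫ Spec.map (g.appLE U W e) ≫ hU.fromSpec := by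
      rw [hU.SpecMap_appLE_fromSpec g hW, ← hW.isoSpec_inv_ι, Category.assoc, Iso.hom_inv_id_assoc]
    rw [h2]
    simp only [mk, Category.assoc, h1]
    rw [cancel_epi, ← Spec.map_comp_assoc, cancel_mono]
    exact Spec.map_inj
  obtain ⟨χ, hχ, huniq⟩ := existsUnique_ringHom hZ hdom hU hUne hW e
  refine ⟨mk χ, (key χ).2 hχ, fun h hh => ?_⟩
  have hr : Set.range h ⊆ Set.range (ν ⁻¹ᵁ U).ι := by
    rintro _ ⟨w, rfl⟩
    rw [Scheme.Opens.range_ι]
    show ν (h w) ∈ U
    rw [← Scheme.Hom.comp_apply, hh, Scheme.Hom.comp_apply]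
    exact e w.2
  obtain ⟨χ', hχ'⟩ := Spec.map_surjective
    (hW.isoSpec.inv ≫ IsOpenImmersion.lift (ν ⁻¹ᵁ U).ι h hr ≫ hV.isoSpec.hom)
  have hh' : h = mk χ' := by
    simp only [mk, hχ', Category.assoc]
    rw [Iso.hom_inv_id_assoc, ← hV.isoSpec_inv_ι, Iso.hom_inv_id_assoc, IsOpenImmersion.lift_fac]
  rw [hh', huniq χ' ((key χ').1 (hh' ▸ hh))]

include hZ hdom in
theorem hom_unique {S : Scheme.{u}} (j : S ⟶ Z) [IsOpenImmersion j] (h₁ h₂ : S ⟶ N)
    (e₁ : h₁ ≫ ν = j ≫ g) (e₂ : h₂ ≫ ν = j ≫ g) : h₁ = h₂ := by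
  have hloc : ∀ s : S, ∃ (U : X.Opens) (W : Z.Opens), IsAffineOpen U ∧ g (j s) ∈ U ∧ IsAffineOpen W ∧ j s ∈ W ∧
      W ≤ j.opensRange ∧ W ≤ g ⁻¹ᵁ U := fun s => by
    obtain ⟨U, hU, hxU, -⟩ := exists_isAffineOpen_mem_and_subset (X := X) (x := g (j s)) (U := ⊤) trivial
    obtain ⟨W, hW, hzW, hWle⟩ := exists_isAffineOpen_mem_and_subset (X := Z) (x := j s)
      (U := j.opensRange ⊓ g ⁻¹ᵁ U) ⟨⟨s, rfl⟩, hxU⟩
    exact ⟨U, W, hU, hxU, hW, hzW, fun _ hw => (hWle hw).1, fun _ hw => (hWle hw).2⟩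
  choose U W hU hxU hW hzW hWj hWU using hloc
  have hr : ∀ s, Set.range (W s).ι ⊆ Set.range j := fun s => by
    rw [Scheme.Opens.range_ι]; exact fun w hw => hWj s hw
  let k : ∀ s, (W s : Scheme.{u}) ⟶ S := fun s => IsOpenImmersion.lift j (W s).ι (hr s)
  have hk : ∀ s, k s ≫ j = (W s).ι := fun s => IsOpenImmersion.lift_fac _ _ _
  haveI : ∀ s, IsOpenImmersion (k s) := fun s =>
    haveI : IsOpenImmersion (k s ≫ j) := by rw [hk]; infer_instance
    IsOpenImmersion.of_comp _ j
  let 𝒰 : S.OpenCover := Scheme.Cover.mkOfCovers S (fun s => (W s : Scheme.{u})) k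
    (fun s => ⟨s, ⟨j s, hzW s⟩, by
      apply j.isOpenEmbedding.injective
      rw [← Scheme.Hom.comp_apply, hk]
      rfl⟩) (fun _ => inferInstance)
  refine 𝒰.hom_ext _ _ fun (s : S) => (existsUnique_local hZ hdom (hU s) ⟨_, hxU s⟩ (hW s) (hWU s)).unique ?_ ?_
  · rw [Category.assoc, e₁, ← Category.assoc]; exact congrArg (· ≫ g) (hk s)
  · rw [Category.assoc, e₂, ← Category.assoc]; exact congrArg (· ≫ g) (hk s)

include hZ hdom in
/-- The universal property of the normalization. -/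
theorem existsUnique_fac : ∃! h : Z ⟶ N, h ≫ ν = g := by
  have hloc : ∀ z : Z, ∃ (U : X.Opens) (W : Z.Opens), IsAffineOpen U ∧ g z ∈ U ∧ IsAffineOpen W ∧ z ∈ W ∧
      W ≤ g ⁻¹ᵁ U := fun z => by
    obtain ⟨U, hU, hxU, -⟩ := exists_isAffineOpen_mem_and_subset (X := X) (x := g z) (U := ⊤) trivial
    obtain ⟨W, hW, hzW, hWle⟩ := exists_isAffineOpen_mem_and_subset (X := Z) (x := z)
      (U := g ⁻¹ᵁ U) hxU
    exact ⟨U, W, hU, hxU, hW, hzW, hWle⟩
  choose U W hU hxU hW hzW hWU using hloc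
  let 𝒰 : Z.OpenCover := Z.openCoverOfIsOpenCover W
    (IsOpenCover.mk (Opens.ext (Set.eq_univ_of_forall fun z => Opens.mem_iSup.2 ⟨z, hzW z⟩)))
  have hl := fun z => (existsUnique_local hZ hdom (hU z) ⟨_, hxU z⟩ (hW z) (hWU z)).exists
  choose h hh using hl
  have hglue : ∀ a b, pullback.fst (𝒰.f a) (𝒰.f b) ≫ h a = pullback.snd (𝒰.f a) (𝒰.f b) ≫ h b := fun a b => by
    refine hom_unique hZ hdom (pullback.fst (𝒰.f a) (𝒰.f b) ≫ 𝒰.f a) _ _ ?_ ?_
    · rw [Category.assoc, hh, Category.assoc]; rfl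
    · rw [Category.assoc, hh, pullback.condition, Category.assoc]; rfl
  refine ⟨𝒰.glueMorphisms h hglue, ?_, fun h' hh' => ?_⟩
  · refine 𝒰.hom_ext _ _ fun z => ?_
    rw [← Category.assoc, 𝒰.ι_glueMorphisms]
    exact hh z
  · refine hom_unique hZ hdom (𝟙 Z) _ _ (by rw [hh', Category.id_comp]) ?_
    rw [Category.id_comp]
    refine 𝒰.hom_ext _ _ fun z => ?_
    rw [← Category.assoc, 𝒰.ι_glueMorphisms]
    exact hh z

end

end Groth.Agent.NormUP12
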